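import Cfsg.Agent.Lib.Helper35.Simple2
import Cfsg.Agent.Lib.Helper35.PresRuP

namespace Cfsg.Agent.Lib.Helper35.RuPOrd.Y0

open Cfsg.Agent.Lib.Helper35

set_option maxRecDepth 100000
noncomputable section
def yw : List Nat := [6, 0, 5, 8]
noncomputable def tA0 : Nat := 0x13103ac0fc8094865008e7000000001cb824e049a000000000000000092dbbc80000f9c0d3000000005da4b74c000000000001b5dd3fb8b70000000000000000000091000005b800012c8812100000000000000007b70686000012006c40d780001476800070581968abc000022b06a6c11d84e80f3e000000000000000194c0000000066a00001190be5115600000000000375c94fc000000009c29920000022d631008b000000000afe000000000000454000000032930efc0cac00000000000c34800000000d1e1a1c00000000000000000000000001348811000000000000000005670000000010f000000000000000031f00000000000000003da07a410c800000000000000021600001ec800000000000566410904310f4c079821c81e3041e07800ef84d603b400000e8820e0396000000001c60976070400001b904180000000020b035a08282a880000412000025180000a2206842aa00000332081c0ca0192090c062c000000003020818000000002f00000000017508d005b4000016b000008100b08710061005700000158040605543198618029e0520000013f027804e809b8417025c0498091011a022608040810000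
noncomputable def tJ0 : Nat := 0x60004000000000000000000000280000000000000000000000000000600000000000800000000000002400000000000000800180030000000000000000000000000000040000000c00000000000000000000000004000000000000004000000180000006001000180000006001800000000004000000000000000000800000000004000000000050000000000000000000000c00000000000000c00000000016000000000000008000000000000000000000000000000000800000000001a62800000000000000800000000000000000000000000000c00000000000000000000040000000000000000000000000000020000000000000000002000400000000000000000000000000000000000000000000c0000008000000040038001000000040008000000200000008000000200000000001000000040000001000000000000000000200000000000000000000000000000800040000000000200000008001000000040000000000200000000000000200000000001000000040000001000000000008000000400040000001000000040000002000200040000001000200040008000000200040008001000200000008000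
noncomputable def tA1 : Nat := 0x156a000000000001bc7800000001b8800003e30000000000006dc0b9c0f4422700000496000000000002b0e51f9ce1a9ed0000000026f0000069a00000000000000000001230000788c16dc1dc8243088a000000000000000000000000000000000000003440d8c00000000000000008f8000115a000000005558000000000003a7823900001a8c92000000f4c000034c0000073299bced500000000000024f87a100000000117068d000015f80000381045610b400000000000000000000002dae4b39e22800000000000248000006581a480000000000000001bc04799a0600002b3000000000000000021f08420001f613aed000000000000000064019d5f2300000000086832e8000042e106400000000000000000015b318ac00003288000067810483aa820f11521774267800003b6000010701cc000007242e184b803880708000020c036606c80d8845312c018c40d400000a20000018980000410102839d0000040e06542c7047f031e06300c50000040c05e80000000000005d82b7846702e000000000000040805882af000002be00000ad0000086a1548184800002a005240000140040414c82088133025e049c091811b0402042c0818000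
noncomputable def tJ1 : Nat := 0x280000000001c00000030000000000000040008000c0010000000000000000000000600140028008000000000000000000400000000000000000000000000c90c001000180000004000000000000000000000000000000000000000020000000000000000000000000000050000000000200000000000000180000000000c00280000000000000380000006001400100000000000000000000000000000000040000001000000030000000800000000000000000000000001be1b0c30000000000000000000000400000000000000000000018000000a0000002000000000000000000000040000002ea06000000000000000000400031c30000000000000020000000000080000000000000000000005000400000020000000600080000000000000000000000000200000000001000000040000000000200040000000000200040008000000400100008000000800000018000000000080000000000000040000000000200040008000000000040000000000000040000000000200000000000000000040000000000200000008000000000000010000000200040000001000000000000001000200040008001000000040008000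
noncomputable def tA2 : Nat := 0xd900000000000000000000000000000000000000000000000000000000000000000000000000000000000000000000002c890492d09c000000000000000000000000000000000000000000000000000000000000000000000000000000000000000000000000000000000000000000005608000000000000000000209a00000000000000024604450000000000000000000000000000000000000000000000000000000000000000000000000000000124a0000000000000000000000000000000000000000035d9044ec1249e9000000000001dbf800000000000000000000000000000000000000000000000051d600000003a8900000000000000000000000000000003dc07a80000000000000000000000000000000000000000000000000000000000000000000000000000000000000000000e901cd000007280e400000000000000000000368000000001af000000000000000000000000d28000000000000000000033400000000000000000000000000030405ec0000000000005dc000000002e2000000003050000058c0000000000000000000000000000000000000000005281010000000000000000000026004a0000011c022804300820000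
noncomputable def tJ2 : Nat := 0xc00000000000000000000000000000000000000000000000000000000000000000000000000000000000000000000000020004000400000000000000000000000000000000000000000000000000000000000000000000000000000000000000000000000000000000000000000000000400000000000000000000010000000000000000002000400000000000000000000000000000000000000000000000000000000000000000000000000000000010000000000000000000000000000000000000000000050005a6100008000000000000030000000000000000000000000000000000000000000000000000400000006a04000000000000000000000000000000000000000000000000000000000000000000000000000000000000000000000000000000000000000000000000000000000000000000000000000000000000000000000000000000000000000000000000000000000000000000000000000000000000000000000000000000000000000000000000000000000000000000000000000000000003000000000000000000000000000000000000000000000000000000010000000000000000000000000000000000000000000000000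
noncomputable def tA3 : Nat := 0x98c00000004ede0988000000000000000000000000000000000000000000000000000000000001b420000000000000000000604e09240000000000000001240000000000000000245000000000000000000000000000000000000000000000000000000000000000000000000000000000000000000000000000000000000000000000000000000000004c0d000000000000000000000000000000000000000000000000000000000000000000000000000749000000000000000000015ea00000000000000000006892089c9e9800078fa00000000000044c0000000000000000000000000000000000000000000013470000000000000000000000000000000000000004340000000000000000000000000000000000adf15b5000000000000000000000000000000000000000000000000000000e980000000000000001c7000000000df0000036a00000000000000000000000000000000000000000000000000000000000000000000000000000000000206030605f0000000000000000000000002e400000000204000005900000000000000000000000000000000000000000000000000202027a000009c0134000004a420e0201000004340828000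
noncomputable def tJ3 : Nat := 0x800000000000000000000000000000000000000000000000000000000000000000000000000000000000000000400000000000000000000000000000000000000000000000000000000000000000000000000000000000000000000000000000000000000000000000000000000000000000000000000000000000000000000000000000002000000000000000000000000000000000000000000000000000000000000000000000000000cd0600000000000000000000028000000000000000000d20600000010000000000000000000000000000000000000000000000000000000000000000000000080000000000000000000000000000000000000000000000000000000000000000000000000000010002000000000000000000000000000000000000000000000000000000008000000000000000001000000000008000000200000000000000000000000000000000000000000000000000000000000000000000000000000000000000000200040000000000000000000000000200000000000000000040000000000000000000000000000000000000000000000000000000200000008001000000040000000000000040008000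
noncomputable def tA4 : Nat := 0x4c40f2800000000000000000000000000000000000000000114c0000000000000001250000000000000000249000000000000000000000000000000000013a800000007c340001cf5800000000000000034406860000000000000000001cb2800000000000000000000000000000023c00000000000000000000000a4b00000000000000000000000000000000000000000000000000000000000000000000000000000000000000000000000000000000000000000000011400000000e3ac000022700000000000000000000000000000000000000000000000000000000000000000000000000000000000000031f0000000000000000000000010d0000000007ac0000000000000000000000062e00000000000000000000000000000000000000000000000001888310000007640ea0000000008340000000097e000010600000000082c00001b000000000000000000000000000000003440000000000000000658000030906100000000018903080000000000000000000000000008d805b8102000000000594000000008b600001018159000000002268000000008080a30141027c0000216042b00000804092011d022a04380830000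
noncomputable def tJ4 : Nat := 0x1400000000000000000000000000000000000000000000800000000000000000000000000000000000000000000000000000000000000000000000000000000000006000000180000000000000000040004000000000000000000000180000000000000000000000000000000000000000000000000000000000180000000000000000000000000000000000000000000000000000000000000000000000000000000000000000000000000000000000000000000000000000000000c0000000000000000000000000000000000000000000000000000000000000000000000000000000000000000000000002000000000000000000000000000000000000040000000000000000000000000400000000000000000000000000000000000000000000000000020002000000040008000000000000000000000000000000000000000000000001000000000000000000000000000000000200000000000000000040000004000400000000001000200000000000000000000000000000000040000000000000040000000000000000000001000000000000000000000000008001000200000000000000000000008001000200040008000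
noncomputable def tA5 : Nat := 0x8e415ca00004f380000000000012780000000000000000007b180000000000011a0193800000000000000000000000000000000000009c3c00000000000000000000000000784e0001d20000000010a9022180000c8a09000000000000008fc0000000000000000000000000008ec000089f000008e800000000ea6000000000000000000000009ab135800003988000045e00000000000045c0000000000004585138000000000000000000000000000000000042b110018b411380000000000000000000000000011300000000000000000000000000000000000000000000000000000000000000000000107c0000621000000000000000000007b00000000000000000000000000000000000000042600000000211114e0000000000003c217580000000041c00000ea8000000000002dd80000b7a083000001ba036c00000000000035c06a810480000000168c00001a40000000044e80000336065c2c301930b1008180000000030a05f40000000000000002b400000ad4081000000000000000020408120c14080c000000002ae24600aa00000404052c0a381420000145c09c8519040204a8000011e022c043c0838000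
noncomputable def tJ5 : Nat := 0x2000000000010000000000000000000000000000000000000c000000000000008000000000000000000000000000000000000000000006000000000000000000000000000006000000180000000000c00100000000000000000000000000000000000000000000000000000000000000020000000000000000004000000000000000000000000020000000000100000000000000000000000000000000000001ac140000000000000000000000000000000000002000800000000000000000000000000000000000000000000000000000000000000000000000000000000000000000000000000000000000080000000000000000000000000000040000000000000000000000000000000000000000000000000000000000000000000000200080000000000000000008000000000000010000000000000000001000200000000000000200040000000000000080000001000000000000000000200040010001000000000000000000200040000000000000000010000000000000000000000000000010004000000000000000000200000008000000000040008001000000080008000000000040000001000200040008000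
noncomputable def tA6 : Nat := 0x1b800001b505a6400003520dcc1158000000000000d34125800000000000000000004920f3000000000000000000000000490000000005d70000000000000000000ea3c1a2000004840000000024100000000000024007660000363023f0000000000000000b78000000004a200000000af300000000766c0000b570000000000000000cbe00004d6800006640000e57022f42640000350843b0000000054e0000000000019c9832c249008a80000000000000000000000044e0de9e210000000000003490000044c0001a4400000000161c0000000000000000000000000000000000000043c000000000000000000010d83620434ee3c0000000000015a4000073a08780858000109c0c7c0000000000016aa00000f388950622083c0f2000003c4000010701de03b800000eb01ce00000000000020c038a00000df81bb036e00000000333041406ac0d48000034c000018480000346081c0cf80000ca806602458206032006340000000030c05f80bc800000000000236800002e600000b6000002d0059822e0203061605740ad800000000000101015302a2053000001430a3010b81008135026204ac092811f022e04400840000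
noncomputable def tJ6 : Nat := 0x38000000400140000002000000080000000000000080000000000000000000000000000100000000000000000000000000000000000000000000000000000000000000010000000000000000000000000000000000000800000000000000000000000000000000000000009000000038c180000000000000000080000000000000000004000000000000004000000300009f0600000000002000000000000000000000000030002cf0600000000000000000000000000000000130c1800000000000000000000000000000000000000000000000000000000000000000000000000000000000000000000000000000000000400018c0c0000000000000000000006000a00000004a83000000000000000000000000008000000400000008000000200000000001000200000008001000000000000000000200000008001000200000000007000000040008000000200000010000000200000008000000a00040000000000200040000000000200040008000000000000000000000200000008000000200040000000000800040008000000000000000001000200040000001000000000000001000200040008001000200040008000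
noncomputable def tA7 : Nat := 0x4aa178c00002510000093c00000000ba20930000000000000d38000359109980924000000000000000000000000000921d6304d6000000000000000000016e41218000000000001a2baeb0482000000004b3048000000000000047e000000000000000000000000000000000045080000474000011c8ee7000008dc0000000046616c02cc800004620000000099539540000bf3022e000000003aa000069221604000022b738c00000000000065a0000000337d08f4089c000000000000000000000000000898000000000000000112800000000000000000000000000000000000000000190821d00000000231021b000008680000000000011a029b00000000000010b0319042a000000000001950178852b80000420139010780000624000026f020e03ba00000eb81cf0000000000004c50418070c0e001bc0370156c000055f0b30218032800000a26000010400000878127c103800003380c280000490040c06380000000030e05fc1028000000000000000000040805bc000000002d2059c000040b04060578000000000000558229820202a405340000144082e04ec21a8201026404b00000120023004440848000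
noncomputable def tJ7 : Nat := 0xc00000000000000000000000006000000000000000000800000060008000000000000000000000000000000000000300000000000000000000000000c00000000000000000100050000000000000040000000000000000000000000000000000000000000000000000000180000000000000000000000000000000000000000000180000000000000000040004000000000000000000000380000000000c0000000001000000000000000400000000002000800000000000000000000000000000000000000000000000000000000000000000000000000000000000000000000000010000000000000020000000000000000000000000000010000000000000000002000000000000000000000000010000000000000000000000400000000000000200000008001000000000000000000000040008001000200140000000000000000018000000600000000000000000000000000000200080000000000000040000000000200040000000000000000000000000000040000000000200040000004000000040000000000000040000000000200040000001000000040000000000200040000001000200040008000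
noncomputable def tA8 : Nat := 0x2550000666c1288000000000001a9000000000000000000000000000000000000000000000000000000000000000006960000000000000000000000000000000000000382d00000000000000000000000120000000000000000034200000d10000000000000000000000000002684000023a00000cec0000000046e0000000000000000000557023100000000117800031cc0000000000006640000000340e0d0200001158000249600000000000000000000000227000000000000000000000003c980000654000019600000000000000000000000000000000000000000000000000000000000000000000086c0000000063c00000000000000000000000217000000000000000000000000000000063000000f4073c000013840f28000000008380000000000000000ec01d00000000010604b6000012e000001bd000000000000000095406b03098000034e082000000000000125c0d0019e033a0000103047d03220000000000003100600000000000000000102000002e8119c000000002d40000101845702c0000000000000e7208081838000061205380000145000008042078136000004b40000121023204480850000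
noncomputable def tJ8 : Nat := 0x10000000000000000000000000000000000000000000000000000000000000000000600000000000000000000000000000000000000004000000000000000000000000000000000000000000003000000080000000000000000000000000000080000000000000080000000000000000000000000000000000000000000000000000000400000000000000400000000004000400000000000cf0a00000000000000000000000000000000000000000000000000000000000600000010000000000000000000000000000000000000000000000000000000000000000000000000000000000600000000000000000000000000000000000000000000000000000000000400000008002000000000008000000000000000000000000000008001000000000000000000000000000001000000000000000000000040010000000200000000000000000000008001000200000000000000200000000000000200040000000000000000000000000200000000000000200000000000000200000000000000000000018000000400040000001000000000000001000000040000001000200040008000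
noncomputable def tA9 : Nat := 0x98fe401382d7d911071b1595a0293e8a60a5614ab295a5271200b42d230c4419a46b58e8a03140610613936c804e49c22b96c5f04ce0c913b7ba231edee5cc7b7bc9a092409de3c0097acae599bc33706770b2815cdd3f016f0904d1bc2b9206e92e479c0d372674eb04b53b1a7646f24509ca11901520287ead0979f2f440e7cc49971332220e400c8864b021e0248b1105203b41369484f1d230a441e903109da3124c0494387ae334e72e8e5ce11c110e847f288e502c802944b091a40242426a18dd89c90c10272e2e5c8924b6428434d8fe110c27184e4d9125114c059803301610347088e111c16382370e7a8b3015ea147019202e515c2238277091049a094c902880304b06988f1620304d4871d134f24585124a20943f260e50bca188e1920028cc499d133b460f2888815922c88432891c0fc506940b301209c40066c4f2012004390484584c189828f034a028cc8905442a2410381c8014a02202e942528424044604900a20f430482191c064844704824d083a5814b0596092c12201440e840d2422204c80272190c3090911082212483c987130c20169024784110948051c0a4024808240294223824905460318066024f01240524040000000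
noncomputable def tJ9 : Nat := 0xcdb0b430a6f0ac45001e2a88a805320944428815006b8113d94a0b4d069a0a504f0004bd697aa102c08e87010212ec52486006c00df7c16b874d01ae0c020eb8247ebd4440216045008772050c0a1800076847c01d0044430c82350c3b392d708cefe19ebf0cc6008823b9af7347e127c00f401e063c0b3a06807ce8ead013a00e409c80530f4600d429a71360e668e640d50eaa086020014569899525e16b07d6aa32205c195008038492a924cac82684662e5b992f695162dd0ca25b0293900073d22da0520ca4980926a400438766190e0c9cd93cd27990e0b674bce422dc447d9a40fa61fb63e887ca749785123c461420f911c06926e19f430c7006887110d1fdf3f3a891c0102e8c3c042c098400b03170c2a005030a031348ae015c0b08b11053660e419c829b1e5b9444348048fafb39dc04db550d9253cb206e0068708fb77000dc83279cb6042c6aa08e66136ac5c53fd83342c2084420d60110742b399703859b0f42b58a995d044083f686b08305448c5744a8e076f4bd81dc1fceb154279711898a93d9e69024f3c605519311242e5689381853c1736655039a84ab623f6498f1fde1703ccbc7ee1363a1331f5897a0076334bb7cc0000000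
noncomputable def tP : Nat := 0x6326306256246226205585565205185165004f64f54e04d04c64b74b64b14b04a44984974964954944934924904884874864824814704624614524434404364314274214204174164134084074064054003f73f63f53f33f23f13e13d13c43c23b53b03a83a63a53963913783763523453363343203183163082f82f72f52f22f02e62e52e42e12d02c52c02b82b62b12a72a62a12a02912842782772762752742732722702682672662652632622612562302222212001f81f61f31f21f11e71e41e01d61c01b81b71b61a71a61a41a31a21a11901781711671661601561511441401351271201151060f70f60f10f00e80e70e60e50e20e10e00d50d40c80c70c60c50c40c10c00b40b30b00a70a0095093090088086083081077076072071070068067066065063062061060056054051050048047046045044042041040038037036035034032030028027026025024023022021018017016015014013012011010000000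
def par : Par := ⟨15, 8, 32767, 255, 33023, 32768⟩
def tabs : Nat → Nat
  | 0 => tA0
  | 1 => tA1
  | 2 => tA2
  | 3 => tA3
  | 4 => tA4
  | 5 => tA5
  | 6 => tA6
  | 7 => tA7
  | 8 => tA8
  | 9 => tA9
  | _ => 0
def pe (u : Nat) : Nat := Nat.land (Nat.shiftRight tP (Nat.mul u 12)) 4095
def je0 (v : Nat) : Nat := Nat.land (Nat.shiftRight tJ0 (Nat.mul v 15)) 32767
def stp0 (off v : Nat) : Nat := Nat.land (Nat.add (Nat.land (Nat.shiftRight tA0 (Nat.mul v 15)) 32767) off) 33023
theorem stp0_eq : ∀ off v, stp0 off v = step par (tabs 0) off v := fun _ _ => rfl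
attribute [irreducible] stp0
def je1 (v : Nat) : Nat := Nat.land (Nat.shiftRight tJ1 (Nat.mul v 15)) 32767
def stp1 (off v : Nat) : Nat := Nat.land (Nat.add (Nat.land (Nat.shiftRight tA1 (Nat.mul v 15)) 32767) off) 33023
theorem stp1_eq : ∀ off v, stp1 off v = step par (tabs 1) off v := fun _ _ => rfl
attribute [irreducible] stp1
def je2 (v : Nat) : Nat := Nat.land (Nat.shiftRight tJ2 (Nat.mul v 15)) 32767
def stp2 (off v : Nat) : Nat := Nat.land (Nat.add (Nat.land (Nat.shiftRight tA2 (Nat.mul v 15)) 32767) off) 33023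
theorem stp2_eq : ∀ off v, stp2 off v = step par (tabs 2) off v := fun _ _ => rfl
attribute [irreducible] stp2
def je3 (v : Nat) : Nat := Nat.land (Nat.shiftRight tJ3 (Nat.mul v 15)) 32767
def stp3 (off v : Nat) : Nat := Nat.land (Nat.add (Nat.land (Nat.shiftRight tA3 (Nat.mul v 15)) 32767) off) 33023
theorem stp3_eq : ∀ off v, stp3 off v = step par (tabs 3) off v := fun _ _ => rfl
attribute [irreducible] stp3
def je4 (v : Nat) : Nat := Nat.land (Nat.shiftRight tJ4 (Nat.mul v 15)) 32767
def stp4 (off v : Nat) : Nat := Nat.land (Nat.add (Nat.land (Nat.shiftRight tA4 (Nat.mul v 15)) 32767) off) 33023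
theorem stp4_eq : ∀ off v, stp4 off v = step par (tabs 4) off v := fun _ _ => rfl
attribute [irreducible] stp4
def je5 (v : Nat) : Nat := Nat.land (Nat.shiftRight tJ5 (Nat.mul v 15)) 32767
def stp5 (off v : Nat) : Nat := Nat.land (Nat.add (Nat.land (Nat.shiftRight tA5 (Nat.mul v 15)) 32767) off) 33023
theorem stp5_eq : ∀ off v, stp5 off v = step par (tabs 5) off v := fun _ _ => rfl
attribute [irreducible] stp5
def je6 (v : Nat) : Nat := Nat.land (Nat.shiftRight tJ6 (Nat.mul v 15)) 32767
def stp6 (off v : Nat) : Nat := Nat.land (Nat.add (Nat.land (Nat.shiftRight tA6 (Nat.mul v 15)) 32767) off) 33023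
theorem stp6_eq : ∀ off v, stp6 off v = step par (tabs 6) off v := fun _ _ => rfl
attribute [irreducible] stp6
def je7 (v : Nat) : Nat := Nat.land (Nat.shiftRight tJ7 (Nat.mul v 15)) 32767
def stp7 (off v : Nat) : Nat := Nat.land (Nat.add (Nat.land (Nat.shiftRight tA7 (Nat.mul v 15)) 32767) off) 33023
theorem stp7_eq : ∀ off v, stp7 off v = step par (tabs 7) off v := fun _ _ => rfl
attribute [irreducible] stp7
def je8 (v : Nat) : Nat := Nat.land (Nat.shiftRight tJ8 (Nat.mul v 15)) 32767
def stp8 (off v : Nat) : Nat := Nat.land (Nat.add (Nat.land (Nat.shiftRight tA8 (Nat.mul v 15)) 32767) off) 33023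
theorem stp8_eq : ∀ off v, stp8 off v = step par (tabs 8) off v := fun _ _ => rfl
attribute [irreducible] stp8
def je9 (v : Nat) : Nat := Nat.land (Nat.shiftRight tJ9 (Nat.mul v 15)) 32767
def stp9 (off v : Nat) : Nat := Nat.land (Nat.add (Nat.land (Nat.shiftRight tA9 (Nat.mul v 15)) 32767) off) 33023
theorem stp9_eq : ∀ off v, stp9 off v = step par (tabs 9) off v := fun _ _ => rfl
attribute [irreducible] stp9
def je : Nat → Nat → Nat
  | 0 => je0
  | 1 => je1
  | 2 => je2
  | 3 => je3
  | 4 => je4
  | 5 => je5
  | 6 => je6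
  | 7 => je7
  | 8 => je8
  | 9 => je9
  | _ => fun _ => 0
def st : Nat → Nat → Nat → Nat
  | 0 => stp0
  | 1 => stp1
  | 2 => stp2
  | 3 => stp3
  | 4 => stp4
  | 5 => stp5
  | 6 => stp6
  | 7 => stp7
  | 8 => stp8
  | 9 => stp9
  | _ => fun off v => step par 0 off v
theorem hst : ∀ l off v, st l off v = step par (tabs l) off v := by
  intro l off v
  rcases Nat.lt_or_ge l 10 with h | h
  · interval_cases l
    exacts [stp0_eq off v, stp1_eq off v, stp2_eq off v, stp3_eq off v, stp4_eq off v, stp5_eq off v, stp6_eq off v, stp7_eq off v, stp8_eq off v, stp9_eq off v]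
  · obtain ⟨k, rfl⟩ : ∃ k, l = k + 10 := ⟨l - 10, by omega⟩
    rfl
def lf0_0 : Leaf (walkS st) := ⟨[0], [], 0, 0, (fun off v => (stp0 off v)), (fun _ v => v), (fun _ u _ => u), fun _ _ => rfl, fun _ _ => rfl⟩
def lf0_2 : Leaf (walkS st) := ⟨[], [7, 1, 6], 49, 1, (fun _ v => v), (fun off v => (stp6 off (stp1 off (stp7 off v)))), (fun v _ _ => v), fun _ _ => rfl, fun _ _ => rfl⟩
def lf0_3 : Leaf (walkS st) := ⟨[], [9, 0], 0, 0, (fun _ v => v), (fun off v => (stp0 off (stp9 off v))), (fun v _ _ => v), fun _ _ => rfl, fun _ _ => rfl⟩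
def lf0_4 : Leaf (walkS st) := ⟨[], [1, 7, 7, 1], 54, 3, (fun _ v => v), (fun off v => (stp1 off (stp7 off (stp7 off (stp1 off v))))), (fun v _ _ => v), fun _ _ => rfl, fun _ _ => rfl⟩
def lf0_5 : Leaf (walkS st) := ⟨[], [5, 0, 5, 0, 5, 0, 5], 12, 2, (fun _ v => v), (fun off v => (stp5 off (stp0 off (stp5 off (stp0 off (stp5 off (stp0 off (stp5 off v)))))))), (fun v _ _ => v), fun _ _ => rfl, fun _ _ => rfl⟩
def lf0_6 : Leaf (walkS st) := ⟨[], [8, 0, 8, 0, 8, 0, 8], 13, 2, (fun _ v => v), (fun off v => (stp8 off (stp0 off (stp8 off (stp0 off (stp8 off (stp0 off (stp8 off v)))))))), (fun v _ _ => v), fun _ _ => rfl, fun _ _ => rfl⟩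
def lf0_7 : Leaf (walkS st) := ⟨[], [7, 8, 5], 9, 1, (fun _ v => v), (fun off v => (stp5 off (stp8 off (stp7 off v)))), (fun v _ _ => v), fun _ _ => rfl, fun _ _ => rfl⟩
def lf0_8 : Leaf (walkS st) := ⟨[], [5, 8, 6], 64, 2, (fun _ v => v), (fun off v => (stp6 off (stp8 off (stp5 off v)))), (fun v _ _ => v), fun _ _ => rfl, fun _ _ => rfl⟩
def lf0_9 : Leaf (walkS st) := ⟨[], [3, 4, 2, 4, 3, 1, 0, 3], 36, 5, (fun _ v => v), (fun off v => (stp3 off (stp0 off (stp1 off (stp3 off (stp4 off (stp2 off (stp4 off (stp3 off v))))))))), (fun v _ _ => v), fun _ _ => rfl, fun _ _ => rfl⟩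
def lf0_10 : Leaf (walkS st) := ⟨[9], [0], 0, 0, (fun off v => (stp9 off v)), (fun off v => (stp0 off v)), (fun _ _ p => p), fun _ _ => rfl, fun _ _ => rfl⟩
def lf0_11 : Leaf (walkS st) := ⟨[], [8, 2, 0, 2, 2, 0, 3, 8], 55, 1, (fun _ v => v), (fun off v => (stp8 off (stp3 off (stp0 off (stp2 off (stp2 off (stp0 off (stp2 off (stp8 off v))))))))), (fun v _ _ => v), fun _ _ => rfl, fun _ _ => rfl⟩
def lf0_12 : Leaf (walkS st) := ⟨[], [3, 4, 1, 4, 0, 1, 3, 1, 0, 1], 35, 7, (fun _ v => v), (fun off v => (stp1 off (stp0 off (stp1 off (stp3 off (stp1 off (stp0 off (stp4 off (stp1 off (stp4 off (stp3 off v))))))))))), (fun v _ _ => v), fun _ _ => rfl, fun _ _ => rfl⟩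
def tree0 : RTree (walkS st) :=
  (.node 1 (.fork lf0_0) (.node 2 .tleaf (.node 4 (.node 3 (.fork lf0_2) (.fork lf0_3)) (.node 6 (.node 5 (.fork lf0_4) (.fork lf0_5)) (.node 9 (.node 7 (.fork lf0_6) (.node 8 (.fork lf0_7) (.fork lf0_8))) (.node 11 (.node 10 (.fork lf0_9) (.fork lf0_10)) (.node 12 (.fork lf0_11) (.fork lf0_12))))))))
def lf1_0 : Leaf (walkS st) := ⟨[1], [], 1, 0, (fun off v => (stp1 off v)), (fun _ v => v), (fun _ u _ => u), fun _ _ => rfl, fun _ _ => rfl⟩
def lf1_2 : Leaf (walkS st) := ⟨[], [6, 0, 7], 49, 3, (fun _ v => v), (fun off v => (stp7 off (stp0 off (stp6 off v)))), (fun v _ _ => v), fun _ _ => rfl, fun _ _ => rfl⟩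
def lf1_3 : Leaf (walkS st) := ⟨[], [7, 7, 1, 0], 54, 2, (fun _ v => v), (fun off v => (stp0 off (stp1 off (stp7 off (stp7 off v))))), (fun v _ _ => v), fun _ _ => rfl, fun _ _ => rfl⟩
def lf1_4 : Leaf (walkS st) := ⟨[], [0, 1, 6, 6], 109, 2, (fun _ v => v), (fun off v => (stp6 off (stp6 off (stp1 off (stp0 off v))))), (fun v _ _ => v), fun _ _ => rfl, fun _ _ => rfl⟩
def lf1_5 : Leaf (walkS st) := ⟨[], [9, 1], 1, 0, (fun _ v => v), (fun off v => (stp1 off (stp9 off v))), (fun v _ _ => v), fun _ _ => rfl, fun _ _ => rfl⟩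
def lf1_6 : Leaf (walkS st) := ⟨[9], [1], 1, 0, (fun off v => (stp9 off v)), (fun off v => (stp1 off v)), (fun _ _ p => p), fun _ _ => rfl, fun _ _ => rfl⟩
def lf1_7 : Leaf (walkS st) := ⟨[], [0, 1, 7, 7], 54, 4, (fun _ v => v), (fun off v => (stp7 off (stp7 off (stp1 off (stp0 off v))))), (fun v _ _ => v), fun _ _ => rfl, fun _ _ => rfl⟩
def lf1_8 : Leaf (walkS st) := ⟨[], [4, 0, 1, 4, 1, 2, 0, 3, 0], 94, 0, (fun _ v => v), (fun off v => (stp0 off (stp3 off (stp0 off (stp2 off (stp1 off (stp4 off (stp1 off (stp0 off (stp4 off v)))))))))), (fun v _ _ => v), fun _ _ => rfl, fun _ _ => rfl⟩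
def tree1 : RTree (walkS st) :=
  (.node 2 (.node 1 (.fork lf1_0) .tleaf) (.node 4 (.node 3 (.fork lf1_2) (.fork lf1_3)) (.node 5 (.fork lf1_4) (.node 6 (.fork lf1_5) (.node 7 (.fork lf1_6) (.node 8 (.fork lf1_7) (.fork lf1_8)))))))
def lf2_1 : Leaf (walkS st) := ⟨[], [9, 2], 2, 0, (fun _ v => v), (fun off v => (stp2 off (stp9 off v))), (fun v _ _ => v), fun _ _ => rfl, fun _ _ => rfl⟩
def lf2_2 : Leaf (walkS st) := ⟨[3], [], 3, 0, (fun off v => (stp3 off v)), (fun _ v => v), (fun _ u _ => u), fun _ _ => rfl, fun _ _ => rfl⟩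
def lf2_3 : Leaf (walkS st) := ⟨[], [3, 3, 3], 24, 1, (fun _ v => v), (fun off v => (stp3 off (stp3 off (stp3 off v)))), (fun v _ _ => v), fun _ _ => rfl, fun _ _ => rfl⟩
def lf2_4 : Leaf (walkS st) := ⟨[9], [2], 2, 0, (fun off v => (stp9 off v)), (fun off v => (stp2 off v)), (fun _ _ p => p), fun _ _ => rfl, fun _ _ => rfl⟩
def lf2_5 : Leaf (walkS st) := ⟨[], [4, 2, 0, 2, 0, 1, 2, 4], 91, 6, (fun _ v => v), (fun off v => (stp4 off (stp2 off (stp1 off (stp0 off (stp2 off (stp0 off (stp2 off (stp4 off v))))))))), (fun v _ _ => v), fun _ _ => rfl, fun _ _ => rfl⟩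
def lf2_6 : Leaf (walkS st) := ⟨[], [8, 4, 8, 0, 1, 4, 0, 2, 0], 58, 3, (fun _ v => v), (fun off v => (stp0 off (stp2 off (stp0 off (stp4 off (stp1 off (stp0 off (stp8 off (stp4 off (stp8 off v)))))))))), (fun v _ _ => v), fun _ _ => rfl, fun _ _ => rfl⟩
def tree2 : RTree (walkS st) :=
  (.node 1 .tleaf (.node 2 (.fork lf2_1) (.node 3 (.fork lf2_2) (.node 4 (.fork lf2_3) (.node 5 (.fork lf2_4) (.node 6 (.fork lf2_5) (.fork lf2_6)))))))
def lf3_0 : Leaf (walkS st) := ⟨[2], [], 2, 0, (fun off v => (stp2 off v)), (fun _ v => v), (fun _ u _ => u), fun _ _ => rfl, fun _ _ => rfl⟩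
def lf3_2 : Leaf (walkS st) := ⟨[], [9, 3], 3, 0, (fun _ v => v), (fun off v => (stp3 off (stp9 off v))), (fun v _ _ => v), fun _ _ => rfl, fun _ _ => rfl⟩
def lf3_3 : Leaf (walkS st) := ⟨[9], [3], 3, 0, (fun off v => (stp9 off v)), (fun off v => (stp3 off v)), (fun _ _ p => p), fun _ _ => rfl, fun _ _ => rfl⟩
def lf3_4 : Leaf (walkS st) := ⟨[], [4, 1, 0, 3, 7, 0, 8, 2, 8, 1], 112, 6, (fun _ v => v), (fun off v => (stp1 off (stp8 off (stp2 off (stp8 off (stp0 off (stp7 off (stp3 off (stp0 off (stp1 off (stp4 off v))))))))))), (fun v _ _ => v), fun _ _ => rfl, fun _ _ => rfl⟩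
def lf3_5 : Leaf (walkS st) := ⟨[], [4, 3, 4, 2, 0, 2, 0, 1], 91, 8, (fun _ v => v), (fun off v => (stp1 off (stp0 off (stp2 off (stp0 off (stp2 off (stp4 off (stp3 off (stp4 off v))))))))), (fun v _ _ => v), fun _ _ => rfl, fun _ _ => rfl⟩
def tree3 : RTree (walkS st) :=
  (.node 1 (.fork lf3_0) (.node 2 .tleaf (.node 3 (.fork lf3_2) (.node 4 (.fork lf3_3) (.node 5 (.fork lf3_4) (.fork lf3_5))))))
def lf4_0 : Leaf (walkS st) := ⟨[4], [], 4, 0, (fun off v => (stp4 off v)), (fun _ v => v), (fun _ u _ => u), fun _ _ => rfl, fun _ _ => rfl⟩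
def lf4_2 : Leaf (walkS st) := ⟨[], [7, 4, 6], 52, 1, (fun _ v => v), (fun off v => (stp6 off (stp4 off (stp7 off v)))), (fun v _ _ => v), fun _ _ => rfl, fun _ _ => rfl⟩
def lf4_3 : Leaf (walkS st) := ⟨[], [9, 4], 4, 0, (fun _ v => v), (fun off v => (stp4 off (stp9 off v))), (fun v _ _ => v), fun _ _ => rfl, fun _ _ => rfl⟩
def lf4_4 : Leaf (walkS st) := ⟨[], [6, 4, 7], 52, 3, (fun _ v => v), (fun off v => (stp7 off (stp4 off (stp6 off v)))), (fun v _ _ => v), fun _ _ => rfl, fun _ _ => rfl⟩
def lf4_5 : Leaf (walkS st) := ⟨[], [3, 1, 0, 3, 0, 3, 4, 2], 36, 1, (fun _ v => v), (fun off v => (stp2 off (stp4 off (stp3 off (stp0 off (stp3 off (stp0 off (stp1 off (stp3 off v))))))))), (fun v _ _ => v), fun _ _ => rfl, fun _ _ => rfl⟩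
def tree4 : RTree (walkS st) :=
  (.node 1 (.fork lf4_0) (.node 2 .tleaf (.node 3 (.fork lf4_2) (.node 4 (.fork lf4_3) (.node 5 (.fork lf4_4) (.fork lf4_5))))))
def lf5_0 : Leaf (walkS st) := ⟨[5], [], 5, 0, (fun off v => (stp5 off v)), (fun _ v => v), (fun _ u _ => u), fun _ _ => rfl, fun _ _ => rfl⟩
def lf5_2 : Leaf (walkS st) := ⟨[], [8, 6, 0], 64, 1, (fun _ v => v), (fun off v => (stp0 off (stp6 off (stp8 off v)))), (fun v _ _ => v), fun _ _ => rfl, fun _ _ => rfl⟩
def lf5_3 : Leaf (walkS st) := ⟨[], [9, 5], 5, 0, (fun _ v => v), (fun off v => (stp5 off (stp9 off v))), (fun v _ _ => v), fun _ _ => rfl, fun _ _ => rfl⟩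
def lf5_4 : Leaf (walkS st) := ⟨[], [0, 7, 8], 9, 2, (fun _ v => v), (fun off v => (stp8 off (stp7 off (stp0 off v)))), (fun v _ _ => v), fun _ _ => rfl, fun _ _ => rfl⟩
def lf5_5 : Leaf (walkS st) := ⟨[9], [5], 5, 0, (fun off v => (stp9 off v)), (fun off v => (stp5 off v)), (fun _ _ p => p), fun _ _ => rfl, fun _ _ => rfl⟩
def lf5_6 : Leaf (walkS st) := ⟨[], [1, 5, 1, 5, 1, 5, 1, 5, 1], 15, 5, (fun _ v => v), (fun off v => (stp1 off (stp5 off (stp1 off (stp5 off (stp1 off (stp5 off (stp1 off (stp5 off (stp1 off v)))))))))), (fun v _ _ => v), fun _ _ => rfl, fun _ _ => rfl⟩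
def tree5 : RTree (walkS st) :=
  (.node 1 (.fork lf5_0) (.node 2 .tleaf (.node 3 (.fork lf5_2) (.node 4 (.fork lf5_3) (.node 5 (.fork lf5_4) (.node 6 (.fork lf5_5) (.fork lf5_6)))))))
def lf6_0 : Leaf (walkS st) := ⟨[7], [], 7, 0, (fun off v => (stp7 off v)), (fun _ v => v), (fun _ u _ => u), fun _ _ => rfl, fun _ _ => rfl⟩
def lf6_2 : Leaf (walkS st) := ⟨[], [7, 7, 7], 31, 1, (fun _ v => v), (fun off v => (stp7 off (stp7 off (stp7 off v)))), (fun v _ _ => v), fun _ _ => rfl, fun _ _ => rfl⟩
def lf6_3 : Leaf (walkS st) := ⟨[9], [6], 6, 0, (fun off v => (stp9 off v)), (fun off v => (stp6 off v)), (fun _ _ p => p), fun _ _ => rfl, fun _ _ => rfl⟩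
def lf6_4 : Leaf (walkS st) := ⟨[], [7, 1, 0, 1], 54, 1, (fun _ v => v), (fun off v => (stp1 off (stp0 off (stp1 off (stp7 off v))))), (fun v _ _ => v), fun _ _ => rfl, fun _ _ => rfl⟩
def lf6_5 : Leaf (walkS st) := ⟨[], [1, 6, 0], 49, 0, (fun _ v => v), (fun off v => (stp0 off (stp6 off (stp1 off v)))), (fun v _ _ => v), fun _ _ => rfl, fun _ _ => rfl⟩
def lf6_6 : Leaf (walkS st) := ⟨[], [8, 5, 0], 9, 0, (fun _ v => v), (fun off v => (stp0 off (stp5 off (stp8 off v)))), (fun v _ _ => v), fun _ _ => rfl, fun _ _ => rfl⟩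
def lf6_7 : Leaf (walkS st) := ⟨[], [0, 1, 0, 6, 1], 50, 0, (fun _ v => v), (fun off v => (stp1 off (stp6 off (stp0 off (stp1 off (stp0 off v)))))), (fun v _ _ => v), fun _ _ => rfl, fun _ _ => rfl⟩
def lf6_8 : Leaf (walkS st) := ⟨[], [1, 0, 1, 7], 54, 0, (fun _ v => v), (fun off v => (stp7 off (stp1 off (stp0 off (stp1 off v))))), (fun v _ _ => v), fun _ _ => rfl, fun _ _ => rfl⟩
def lf6_9 : Leaf (walkS st) := ⟨[], [4, 6, 4], 52, 0, (fun _ v => v), (fun off v => (stp4 off (stp6 off (stp4 off v)))), (fun v _ _ => v), fun _ _ => rfl, fun _ _ => rfl⟩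
def tree6 : RTree (walkS st) :=
  (.node 1 (.fork lf6_0) (.node 2 .tleaf (.node 4 (.node 3 (.fork lf6_2) (.fork lf6_3)) (.node 6 (.node 5 (.fork lf6_4) (.fork lf6_5)) (.node 7 (.fork lf6_6) (.node 8 (.fork lf6_7) (.node 9 (.fork lf6_8) (.fork lf6_9))))))))
def lf7_0 : Leaf (walkS st) := ⟨[6], [], 6, 0, (fun off v => (stp6 off v)), (fun _ v => v), (fun _ u _ => u), fun _ _ => rfl, fun _ _ => rfl⟩
def lf7_2 : Leaf (walkS st) := ⟨[], [0, 5, 8], 64, 3, (fun _ v => v), (fun off v => (stp8 off (stp5 off (stp0 off v)))), (fun v _ _ => v), fun _ _ => rfl, fun _ _ => rfl⟩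
def lf7_3 : Leaf (walkS st) := ⟨[], [0, 7, 1], 49, 2, (fun _ v => v), (fun off v => (stp1 off (stp7 off (stp0 off v)))), (fun v _ _ => v), fun _ _ => rfl, fun _ _ => rfl⟩
def lf7_4 : Leaf (walkS st) := ⟨[], [6, 6, 6], 86, 1, (fun _ v => v), (fun off v => (stp6 off (stp6 off (stp6 off v)))), (fun v _ _ => v), fun _ _ => rfl, fun _ _ => rfl⟩
def lf7_5 : Leaf (walkS st) := ⟨[], [4, 7, 4], 52, 2, (fun _ v => v), (fun off v => (stp4 off (stp7 off (stp4 off v)))), (fun v _ _ => v), fun _ _ => rfl, fun _ _ => rfl⟩
def lf7_6 : Leaf (walkS st) := ⟨[], [9, 7], 7, 0, (fun _ v => v), (fun off v => (stp7 off (stp9 off v))), (fun v _ _ => v), fun _ _ => rfl, fun _ _ => rfl⟩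
def lf7_7 : Leaf (walkS st) := ⟨[], [1, 0, 1, 6], 109, 3, (fun _ v => v), (fun off v => (stp6 off (stp1 off (stp0 off (stp1 off v))))), (fun v _ _ => v), fun _ _ => rfl, fun _ _ => rfl⟩
def lf7_8 : Leaf (walkS st) := ⟨[], [6, 1, 0, 1], 109, 4, (fun _ v => v), (fun off v => (stp1 off (stp0 off (stp1 off (stp6 off v))))), (fun v _ _ => v), fun _ _ => rfl, fun _ _ => rfl⟩
def tree7 : RTree (walkS st) :=
  (.node 1 (.fork lf7_0) (.node 2 .tleaf (.node 4 (.node 3 (.fork lf7_2) (.fork lf7_3)) (.node 5 (.fork lf7_4) (.node 6 (.fork lf7_5) (.node 7 (.fork lf7_6) (.node 8 (.fork lf7_7) (.fork lf7_8))))))))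
def lf8_0 : Leaf (walkS st) := ⟨[8], [], 8, 0, (fun off v => (stp8 off v)), (fun _ v => v), (fun _ u _ => u), fun _ _ => rfl, fun _ _ => rfl⟩
def lf8_2 : Leaf (walkS st) := ⟨[], [5, 0, 7], 9, 3, (fun _ v => v), (fun off v => (stp7 off (stp0 off (stp5 off v)))), (fun v _ _ => v), fun _ _ => rfl, fun _ _ => rfl⟩
def lf8_3 : Leaf (walkS st) := ⟨[], [6, 0, 5], 64, 0, (fun _ v => v), (fun off v => (stp5 off (stp0 off (stp6 off v)))), (fun v _ _ => v), fun _ _ => rfl, fun _ _ => rfl⟩
def lf8_4 : Leaf (walkS st) := ⟨[], [9, 8], 8, 0, (fun _ v => v), (fun off v => (stp8 off (stp9 off v))), (fun v _ _ => v), fun _ _ => rfl, fun _ _ => rfl⟩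
def lf8_5 : Leaf (walkS st) := ⟨[9], [8], 8, 0, (fun off v => (stp9 off v)), (fun off v => (stp8 off v)), (fun _ _ p => p), fun _ _ => rfl, fun _ _ => rfl⟩
def tree8 : RTree (walkS st) :=
  (.node 1 (.fork lf8_0) (.node 2 .tleaf (.node 3 (.fork lf8_2) (.node 4 (.fork lf8_3) (.node 5 (.fork lf8_4) (.fork lf8_5))))))
def lf9_0 : Leaf (walkS st) := ⟨[1], [9, 1], 1, 0, (fun off v => (stp1 off v)), (fun off v => (stp1 off (stp9 off v))), (fun _ _ p => p), fun _ _ => rfl, fun _ _ => rfl⟩
def lf9_1 : Leaf (walkS st) := ⟨[6], [9, 6], 6, 0, (fun off v => (stp6 off v)), (fun off v => (stp6 off (stp9 off v))), (fun _ _ p => p), fun _ _ => rfl, fun _ _ => rfl⟩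
def lf9_2 : Leaf (walkS st) := ⟨[7], [9, 7], 7, 0, (fun off v => (stp7 off v)), (fun off v => (stp7 off (stp9 off v))), (fun _ _ p => p), fun _ _ => rfl, fun _ _ => rfl⟩
def lf9_3 : Leaf (walkS st) := ⟨[0], [9, 0], 0, 0, (fun off v => (stp0 off v)), (fun off v => (stp0 off (stp9 off v))), (fun _ _ p => p), fun _ _ => rfl, fun _ _ => rfl⟩
def lf9_4 : Leaf (walkS st) := ⟨[9, 6], [6], 6, 0, (fun off v => (stp6 off (stp9 off v))), (fun off v => (stp6 off v)), (fun _ _ p => p), fun _ _ => rfl, fun _ _ => rfl⟩
def lf9_5 : Leaf (walkS st) := ⟨[2], [9, 2], 2, 0, (fun off v => (stp2 off v)), (fun off v => (stp2 off (stp9 off v))), (fun _ _ p => p), fun _ _ => rfl, fun _ _ => rfl⟩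
def lf9_6 : Leaf (walkS st) := ⟨[4], [9, 4], 4, 0, (fun off v => (stp4 off v)), (fun off v => (stp4 off (stp9 off v))), (fun _ _ p => p), fun _ _ => rfl, fun _ _ => rfl⟩
def lf9_7 : Leaf (walkS st) := ⟨[5], [9, 5], 5, 0, (fun off v => (stp5 off v)), (fun off v => (stp5 off (stp9 off v))), (fun _ _ p => p), fun _ _ => rfl, fun _ _ => rfl⟩
def lf9_8 : Leaf (walkS st) := ⟨[8], [9, 8], 8, 0, (fun off v => (stp8 off v)), (fun off v => (stp8 off (stp9 off v))), (fun _ _ p => p), fun _ _ => rfl, fun _ _ => rfl⟩
def lf9_9 : Leaf (walkS st) := ⟨[9, 1], [1], 1, 0, (fun off v => (stp1 off (stp9 off v))), (fun off v => (stp1 off v)), (fun _ _ p => p), fun _ _ => rfl, fun _ _ => rfl⟩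
def lf9_10 : Leaf (walkS st) := ⟨[9, 5], [5], 5, 0, (fun off v => (stp5 off (stp9 off v))), (fun off v => (stp5 off v)), (fun _ _ p => p), fun _ _ => rfl, fun _ _ => rfl⟩
def lf9_11 : Leaf (walkS st) := ⟨[9, 0], [0], 0, 0, (fun off v => (stp0 off (stp9 off v))), (fun off v => (stp0 off v)), (fun _ _ p => p), fun _ _ => rfl, fun _ _ => rfl⟩
def lf9_12 : Leaf (walkS st) := ⟨[9, 7], [7], 7, 0, (fun off v => (stp7 off (stp9 off v))), (fun off v => (stp7 off v)), (fun _ _ p => p), fun _ _ => rfl, fun _ _ => rfl⟩
def lf9_13 : Leaf (walkS st) := ⟨[3], [9, 3], 3, 0, (fun off v => (stp3 off v)), (fun off v => (stp3 off (stp9 off v))), (fun _ _ p => p), fun _ _ => rfl, fun _ _ => rfl⟩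
def lf9_14 : Leaf (walkS st) := ⟨[9, 8], [8], 8, 0, (fun off v => (stp8 off (stp9 off v))), (fun off v => (stp8 off v)), (fun _ _ p => p), fun _ _ => rfl, fun _ _ => rfl⟩
def lf9_15 : Leaf (walkS st) := ⟨[9, 0], [0, 9, 9], 0, 0, (fun off v => (stp0 off (stp9 off v))), (fun off v => (stp9 off (stp9 off (stp0 off v)))), (fun _ _ p => p), fun _ _ => rfl, fun _ _ => rfl⟩
def lf9_16 : Leaf (walkS st) := ⟨[8], [9, 8, 9], 8, 0, (fun off v => (stp8 off v)), (fun off v => (stp9 off (stp8 off (stp9 off v)))), (fun _ _ p => p), fun _ _ => rfl, fun _ _ => rfl⟩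
def lf9_17 : Leaf (walkS st) := ⟨[4], [9, 9, 4, 9], 4, 0, (fun off v => (stp4 off v)), (fun off v => (stp9 off (stp4 off (stp9 off (stp9 off v))))), (fun _ _ p => p), fun _ _ => rfl, fun _ _ => rfl⟩
def lf9_18 : Leaf (walkS st) := ⟨[9, 1, 9], [1], 1, 0, (fun off v => (stp9 off (stp1 off (stp9 off v)))), (fun off v => (stp1 off v)), (fun _ _ p => p), fun _ _ => rfl, fun _ _ => rfl⟩
def lf9_19 : Leaf (walkS st) := ⟨[6, 9], [9, 6], 6, 0, (fun off v => (stp9 off (stp6 off v))), (fun off v => (stp6 off (stp9 off v))), (fun _ _ p => p), fun _ _ => rfl, fun _ _ => rfl⟩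
def lf9_20 : Leaf (walkS st) := ⟨[2], [9, 9, 2], 2, 0, (fun off v => (stp2 off v)), (fun off v => (stp2 off (stp9 off (stp9 off v)))), (fun _ _ p => p), fun _ _ => rfl, fun _ _ => rfl⟩
def lf9_21 : Leaf (walkS st) := ⟨[8, 9], [9, 8], 8, 0, (fun off v => (stp9 off (stp8 off v))), (fun off v => (stp8 off (stp9 off v))), (fun _ _ p => p), fun _ _ => rfl, fun _ _ => rfl⟩
def lf9_22 : Leaf (walkS st) := ⟨[1], [9, 1, 9], 1, 0, (fun off v => (stp1 off v)), (fun off v => (stp9 off (stp1 off (stp9 off v)))), (fun _ _ p => p), fun _ _ => rfl, fun _ _ => rfl⟩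
def lf9_23 : Leaf (walkS st) := ⟨[6], [9, 6, 9], 6, 0, (fun off v => (stp6 off v)), (fun off v => (stp9 off (stp6 off (stp9 off v)))), (fun _ _ p => p), fun _ _ => rfl, fun _ _ => rfl⟩
def lf9_24 : Leaf (walkS st) := ⟨[9, 7], [7, 9], 7, 0, (fun off v => (stp7 off (stp9 off v))), (fun off v => (stp9 off (stp7 off v))), (fun _ _ p => p), fun _ _ => rfl, fun _ _ => rfl⟩
def lf9_25 : Leaf (walkS st) := ⟨[8, 9, 9], [9, 8], 8, 0, (fun off v => (stp9 off (stp9 off (stp8 off v)))), (fun off v => (stp8 off (stp9 off v))), (fun _ _ p => p), fun _ _ => rfl, fun _ _ => rfl⟩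
def lf9_26 : Leaf (walkS st) := ⟨[3, 9], [9, 3], 3, 0, (fun off v => (stp9 off (stp3 off v))), (fun off v => (stp3 off (stp9 off v))), (fun _ _ p => p), fun _ _ => rfl, fun _ _ => rfl⟩
def lf9_27 : Leaf (walkS st) := ⟨[9, 5], [5, 9], 5, 0, (fun off v => (stp5 off (stp9 off v))), (fun off v => (stp9 off (stp5 off v))), (fun _ _ p => p), fun _ _ => rfl, fun _ _ => rfl⟩
def lf9_28 : Leaf (walkS st) := ⟨[0, 9], [9, 0], 0, 0, (fun off v => (stp9 off (stp0 off v))), (fun off v => (stp0 off (stp9 off v))), (fun _ _ p => p), fun _ _ => rfl, fun _ _ => rfl⟩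
def lf9_29 : Leaf (walkS st) := ⟨[3, 9], [9, 9, 3], 3, 0, (fun off v => (stp9 off (stp3 off v))), (fun off v => (stp3 off (stp9 off (stp9 off v)))), (fun _ _ p => p), fun _ _ => rfl, fun _ _ => rfl⟩
def lf9_30 : Leaf (walkS st) := ⟨[9, 9, 3], [3, 9, 9], 3, 0, (fun off v => (stp3 off (stp9 off (stp9 off v)))), (fun off v => (stp9 off (stp9 off (stp3 off v)))), (fun _ _ p => p), fun _ _ => rfl, fun _ _ => rfl⟩
def lf9_31 : Leaf (walkS st) := ⟨[1], [9, 1, 9, 9, 9], 1, 0, (fun off v => (stp1 off v)), (fun off v => (stp9 off (stp9 off (stp9 off (stp1 off (stp9 off v)))))), (fun _ _ p => p), fun _ _ => rfl, fun _ _ => rfl⟩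
def lf9_32 : Leaf (walkS st) := ⟨[], [0, 8, 0, 8, 0, 8, 0, 8], 13, 7, (fun _ v => v), (fun off v => (stp8 off (stp0 off (stp8 off (stp0 off (stp8 off (stp0 off (stp8 off (stp0 off v))))))))), (fun v _ _ => v), fun _ _ => rfl, fun _ _ => rfl⟩
def lf9_33 : Leaf (walkS st) := ⟨[9, 9, 0], [0, 9], 0, 0, (fun off v => (stp0 off (stp9 off (stp9 off v)))), (fun off v => (stp9 off (stp0 off v))), (fun _ _ p => p), fun _ _ => rfl, fun _ _ => rfl⟩
def lf9_34 : Leaf (walkS st) := ⟨[3], [9, 9, 3], 3, 0, (fun off v => (stp3 off v)), (fun off v => (stp3 off (stp9 off (stp9 off v)))), (fun _ _ p => p), fun _ _ => rfl, fun _ _ => rfl⟩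
def lf9_35 : Leaf (walkS st) := ⟨[4], [9, 9, 4], 4, 0, (fun off v => (stp4 off v)), (fun off v => (stp4 off (stp9 off (stp9 off v)))), (fun _ _ p => p), fun _ _ => rfl, fun _ _ => rfl⟩
def lf9_36 : Leaf (walkS st) := ⟨[5], [9, 9, 5], 5, 0, (fun off v => (stp5 off v)), (fun off v => (stp5 off (stp9 off (stp9 off v)))), (fun _ _ p => p), fun _ _ => rfl, fun _ _ => rfl⟩
def lf9_37 : Leaf (walkS st) := ⟨[7, 9], [9, 9, 7, 9], 7, 0, (fun off v => (stp9 off (stp7 off v))), (fun off v => (stp9 off (stp7 off (stp9 off (stp9 off v))))), (fun _ _ p => p), fun _ _ => rfl, fun _ _ => rfl⟩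
def lf9_38 : Leaf (walkS st) := ⟨[8], [9, 9, 8, 9], 8, 0, (fun off v => (stp8 off v)), (fun off v => (stp9 off (stp8 off (stp9 off (stp9 off v))))), (fun _ _ p => p), fun _ _ => rfl, fun _ _ => rfl⟩
def lf9_39 : Leaf (walkS st) := ⟨[7, 9], [9, 7, 9], 7, 0, (fun off v => (stp9 off (stp7 off v))), (fun off v => (stp9 off (stp7 off (stp9 off v)))), (fun _ _ p => p), fun _ _ => rfl, fun _ _ => rfl⟩
def lf9_40 : Leaf (walkS st) := ⟨[], [1, 5, 1, 5, 1, 5, 1, 5, 1, 5], 70, 0, (fun _ v => v), (fun off v => (stp5 off (stp1 off (stp5 off (stp1 off (stp5 off (stp1 off (stp5 off (stp1 off (stp5 off (stp1 off v))))))))))), (fun v _ _ => v), fun _ _ => rfl, fun _ _ => rfl⟩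
def lf9_41 : Leaf (walkS st) := ⟨[1, 9], [9, 1, 9, 9], 1, 0, (fun off v => (stp9 off (stp1 off v))), (fun off v => (stp9 off (stp9 off (stp1 off (stp9 off v))))), (fun _ _ p => p), fun _ _ => rfl, fun _ _ => rfl⟩
def lf9_42 : Leaf (walkS st) := ⟨[6, 9], [9, 6, 9, 9], 6, 0, (fun off v => (stp9 off (stp6 off v))), (fun off v => (stp9 off (stp9 off (stp6 off (stp9 off v))))), (fun _ _ p => p), fun _ _ => rfl, fun _ _ => rfl⟩
def lf9_43 : Leaf (walkS st) := ⟨[9, 6, 9], [6], 6, 0, (fun off v => (stp9 off (stp6 off (stp9 off v)))), (fun off v => (stp6 off v)), (fun _ _ p => p), fun _ _ => rfl, fun _ _ => rfl⟩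
def lf9_44 : Leaf (walkS st) := ⟨[9, 1], [1, 9, 9], 1, 0, (fun off v => (stp1 off (stp9 off v))), (fun off v => (stp9 off (stp9 off (stp1 off v)))), (fun _ _ p => p), fun _ _ => rfl, fun _ _ => rfl⟩
def lf9_45 : Leaf (walkS st) := ⟨[9, 6], [6, 9, 9], 6, 0, (fun off v => (stp6 off (stp9 off v))), (fun off v => (stp9 off (stp9 off (stp6 off v)))), (fun _ _ p => p), fun _ _ => rfl, fun _ _ => rfl⟩
def lf9_46 : Leaf (walkS st) := ⟨[0, 9], [9, 9, 9, 0, 9], 0, 0, (fun off v => (stp9 off (stp0 off v))), (fun off v => (stp9 off (stp0 off (stp9 off (stp9 off (stp9 off v)))))), (fun _ _ p => p), fun _ _ => rfl, fun _ _ => rfl⟩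
def lf9_47 : Leaf (walkS st) := ⟨[1, 9, 9], [9, 9, 9, 1, 9], 1, 0, (fun off v => (stp9 off (stp9 off (stp1 off v)))), (fun off v => (stp9 off (stp1 off (stp9 off (stp9 off (stp9 off v)))))), (fun _ _ p => p), fun _ _ => rfl, fun _ _ => rfl⟩
def lf9_48 : Leaf (walkS st) := ⟨[6, 9], [9, 9, 9, 6], 6, 0, (fun off v => (stp9 off (stp6 off v))), (fun off v => (stp6 off (stp9 off (stp9 off (stp9 off v))))), (fun _ _ p => p), fun _ _ => rfl, fun _ _ => rfl⟩
def lf9_49 : Leaf (walkS st) := ⟨[0, 9, 9], [9, 9, 0], 0, 0, (fun off v => (stp9 off (stp9 off (stp0 off v)))), (fun off v => (stp0 off (stp9 off (stp9 off v)))), (fun _ _ p => p), fun _ _ => rfl, fun _ _ => rfl⟩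
def lf9_50 : Leaf (walkS st) := ⟨[5], [9, 9, 5, 9], 5, 0, (fun off v => (stp5 off v)), (fun off v => (stp9 off (stp5 off (stp9 off (stp9 off v))))), (fun _ _ p => p), fun _ _ => rfl, fun _ _ => rfl⟩
def lf9_51 : Leaf (walkS st) := ⟨[], [3, 3, 0, 3, 8, 0, 8, 2, 0], 110, 4, (fun _ v => v), (fun off v => (stp0 off (stp2 off (stp8 off (stp0 off (stp8 off (stp3 off (stp0 off (stp3 off (stp3 off v)))))))))), (fun v _ _ => v), fun _ _ => rfl, fun _ _ => rfl⟩
def lf9_52 : Leaf (walkS st) := ⟨[9, 2], [2], 2, 0, (fun off v => (stp2 off (stp9 off v))), (fun off v => (stp2 off v)), (fun _ _ p => p), fun _ _ => rfl, fun _ _ => rfl⟩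
def lf9_53 : Leaf (walkS st) := ⟨[9, 3], [3], 3, 0, (fun off v => (stp3 off (stp9 off v))), (fun off v => (stp3 off v)), (fun _ _ p => p), fun _ _ => rfl, fun _ _ => rfl⟩
def lf9_54 : Leaf (walkS st) := ⟨[], [0, 3, 1, 4, 1, 0, 4, 1, 0, 2], 39, 7, (fun _ v => v), (fun off v => (stp2 off (stp0 off (stp1 off (stp4 off (stp0 off (stp1 off (stp4 off (stp1 off (stp3 off (stp0 off v))))))))))), (fun v _ _ => v), fun _ _ => rfl, fun _ _ => rfl⟩
def lf9_55 : Leaf (walkS st) := ⟨[], [0, 3, 8, 0, 8, 2, 0, 3, 3], 110, 2, (fun _ v => v), (fun off v => (stp3 off (stp3 off (stp0 off (stp2 off (stp8 off (stp0 off (stp8 off (stp3 off (stp0 off v)))))))))), (fun v _ _ => v), fun _ _ => rfl, fun _ _ => rfl⟩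
def lf9_56 : Leaf (walkS st) := ⟨[], [0, 5, 0, 5, 0, 5, 0, 5], 12, 5, (fun _ v => v), (fun off v => (stp5 off (stp0 off (stp5 off (stp0 off (stp5 off (stp0 off (stp5 off (stp0 off v))))))))), (fun v _ _ => v), fun _ _ => rfl, fun _ _ => rfl⟩
def lf9_57 : Leaf (walkS st) := ⟨[], [0, 1, 0, 8, 6, 8, 3, 3, 1, 4, 2], 114, 3, (fun _ v => v), (fun off v => (stp2 off (stp4 off (stp1 off (stp3 off (stp3 off (stp8 off (stp6 off (stp8 off (stp0 off (stp1 off (stp0 off v)))))))))))), (fun v _ _ => v), fun _ _ => rfl, fun _ _ => rfl⟩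
def lf9_58 : Leaf (walkS st) := ⟨[], [0, 8, 0, 8, 0, 8, 0, 8, 9], 13, 1, (fun _ v => v), (fun off v => (stp9 off (stp8 off (stp0 off (stp8 off (stp0 off (stp8 off (stp0 off (stp8 off (stp0 off v)))))))))), (fun v _ _ => v), fun _ _ => rfl, fun _ _ => rfl⟩
def lf9_59 : Leaf (walkS st) := ⟨[], [6, 0, 5, 8, 9], 64, 0, (fun _ v => v), (fun off v => (stp9 off (stp8 off (stp5 off (stp0 off (stp6 off v)))))), (fun v _ _ => v), fun _ _ => rfl, fun _ _ => rfl⟩
def lf9_60 : Leaf (walkS st) := ⟨[], [0, 1, 0, 3, 4, 1, 2, 2, 8, 7, 8], 59, 0, (fun _ v => v), (fun off v => (stp8 off (stp7 off (stp8 off (stp2 off (stp2 off (stp1 off (stp4 off (stp3 off (stp0 off (stp1 off (stp0 off v)))))))))))), (fun v _ _ => v), fun _ _ => rfl, fun _ _ => rfl⟩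
def lf9_61 : Leaf (walkS st) := ⟨[1, 9], [9, 1], 1, 0, (fun off v => (stp9 off (stp1 off v))), (fun off v => (stp1 off (stp9 off v))), (fun _ _ p => p), fun _ _ => rfl, fun _ _ => rfl⟩
def lf9_62 : Leaf (walkS st) := ⟨[9, 6], [6, 9], 6, 0, (fun off v => (stp6 off (stp9 off v))), (fun off v => (stp9 off (stp6 off v))), (fun _ _ p => p), fun _ _ => rfl, fun _ _ => rfl⟩
def lf9_63 : Leaf (walkS st) := ⟨[9, 8, 9], [8], 8, 0, (fun off v => (stp9 off (stp8 off (stp9 off v)))), (fun off v => (stp8 off v)), (fun _ _ p => p), fun _ _ => rfl, fun _ _ => rfl⟩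
def lf9_64 : Leaf (walkS st) := ⟨[2, 9], [9, 2], 2, 0, (fun off v => (stp9 off (stp2 off v))), (fun off v => (stp2 off (stp9 off v))), (fun _ _ p => p), fun _ _ => rfl, fun _ _ => rfl⟩
def lf9_65 : Leaf (walkS st) := ⟨[], [3, 0, 4, 1, 0, 1, 0, 2, 0, 1, 0, 1, 0], 92, 0, (fun _ v => v), (fun off v => (stp0 off (stp1 off (stp0 off (stp1 off (stp0 off (stp2 off (stp0 off (stp1 off (stp0 off (stp1 off (stp4 off (stp0 off (stp3 off v)))))))))))))), (fun v _ _ => v), fun _ _ => rfl, fun _ _ => rfl⟩
def lf9_66 : Leaf (walkS st) := ⟨[], [1, 2, 4, 3, 0, 1, 6, 2, 7, 0, 3], 106, 6, (fun _ v => v), (fun off v => (stp3 off (stp0 off (stp7 off (stp2 off (stp6 off (stp1 off (stp0 off (stp3 off (stp4 off (stp2 off (stp1 off v)))))))))))), (fun v _ _ => v), fun _ _ => rfl, fun _ _ => rfl⟩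
def lf9_67 : Leaf (walkS st) := ⟨[], [1, 4, 2, 0, 1, 0, 1, 2, 1, 0, 4], 90, 7, (fun _ v => v), (fun off v => (stp4 off (stp0 off (stp1 off (stp2 off (stp1 off (stp0 off (stp1 off (stp0 off (stp2 off (stp4 off (stp1 off v)))))))))))), (fun v _ _ => v), fun _ _ => rfl, fun _ _ => rfl⟩
def lf9_68 : Leaf (walkS st) := ⟨[], [4, 3, 4, 0, 3, 0, 8, 1, 8, 9], 111, 6, (fun _ v => v), (fun off v => (stp9 off (stp8 off (stp1 off (stp8 off (stp0 off (stp3 off (stp0 off (stp4 off (stp3 off (stp4 off v))))))))))), (fun v _ _ => v), fun _ _ => rfl, fun _ _ => rfl⟩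
def lf9_69 : Leaf (walkS st) := ⟨[7, 9], [9, 7], 7, 0, (fun off v => (stp9 off (stp7 off v))), (fun off v => (stp7 off (stp9 off v))), (fun _ _ p => p), fun _ _ => rfl, fun _ _ => rfl⟩
def lf9_70 : Leaf (walkS st) := ⟨[9, 1], [1, 9], 1, 0, (fun off v => (stp1 off (stp9 off v))), (fun off v => (stp9 off (stp1 off v))), (fun _ _ p => p), fun _ _ => rfl, fun _ _ => rfl⟩
def lf9_71 : Leaf (walkS st) := ⟨[7, 9, 9], [9, 7], 7, 0, (fun off v => (stp9 off (stp9 off (stp7 off v)))), (fun off v => (stp7 off (stp9 off v))), (fun _ _ p => p), fun _ _ => rfl, fun _ _ => rfl⟩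
def lf9_72 : Leaf (walkS st) := ⟨[1], [9, 1, 9, 9], 1, 0, (fun off v => (stp1 off v)), (fun off v => (stp9 off (stp9 off (stp1 off (stp9 off v))))), (fun _ _ p => p), fun _ _ => rfl, fun _ _ => rfl⟩
def lf9_73 : Leaf (walkS st) := ⟨[5], [9, 5, 9, 9], 5, 0, (fun off v => (stp5 off v)), (fun off v => (stp9 off (stp9 off (stp5 off (stp9 off v))))), (fun _ _ p => p), fun _ _ => rfl, fun _ _ => rfl⟩
def lf9_74 : Leaf (walkS st) := ⟨[6, 9], [9, 6, 9], 6, 0, (fun off v => (stp9 off (stp6 off v))), (fun off v => (stp9 off (stp6 off (stp9 off v)))), (fun _ _ p => p), fun _ _ => rfl, fun _ _ => rfl⟩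
def lf9_75 : Leaf (walkS st) := ⟨[0, 9, 9], [9, 0], 0, 0, (fun off v => (stp9 off (stp9 off (stp0 off v)))), (fun off v => (stp0 off (stp9 off v))), (fun _ _ p => p), fun _ _ => rfl, fun _ _ => rfl⟩
def lf9_76 : Leaf (walkS st) := ⟨[9, 2], [2, 9], 2, 0, (fun off v => (stp2 off (stp9 off v))), (fun off v => (stp9 off (stp2 off v))), (fun _ _ p => p), fun _ _ => rfl, fun _ _ => rfl⟩
def lf9_77 : Leaf (walkS st) := ⟨[9, 3], [3, 9], 3, 0, (fun off v => (stp3 off (stp9 off v))), (fun off v => (stp9 off (stp3 off v))), (fun _ _ p => p), fun _ _ => rfl, fun _ _ => rfl⟩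
def lf9_78 : Leaf (walkS st) := ⟨[9, 6, 9], [6, 9, 9], 6, 0, (fun off v => (stp9 off (stp6 off (stp9 off v)))), (fun off v => (stp9 off (stp9 off (stp6 off v)))), (fun _ _ p => p), fun _ _ => rfl, fun _ _ => rfl⟩
def lf9_79 : Leaf (walkS st) := ⟨[9, 7, 9], [7, 9], 7, 0, (fun off v => (stp9 off (stp7 off (stp9 off v)))), (fun off v => (stp9 off (stp7 off v))), (fun _ _ p => p), fun _ _ => rfl, fun _ _ => rfl⟩
def lf9_80 : Leaf (walkS st) := ⟨[1, 9, 9], [9, 1, 9], 1, 0, (fun off v => (stp9 off (stp9 off (stp1 off v)))), (fun off v => (stp9 off (stp1 off (stp9 off v)))), (fun _ _ p => p), fun _ _ => rfl, fun _ _ => rfl⟩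
def lf9_81 : Leaf (walkS st) := ⟨[9, 6, 9, 9], [6, 9], 6, 0, (fun off v => (stp9 off (stp9 off (stp6 off (stp9 off v))))), (fun off v => (stp9 off (stp6 off v))), (fun _ _ p => p), fun _ _ => rfl, fun _ _ => rfl⟩
def lf9_82 : Leaf (walkS st) := ⟨[9, 9, 4], [4, 9, 9], 4, 0, (fun off v => (stp4 off (stp9 off (stp9 off v)))), (fun off v => (stp9 off (stp9 off (stp4 off v)))), (fun _ _ p => p), fun _ _ => rfl, fun _ _ => rfl⟩
def lf9_83 : Leaf (walkS st) := ⟨[5, 9], [9, 9, 5], 5, 0, (fun off v => (stp9 off (stp5 off v))), (fun off v => (stp5 off (stp9 off (stp9 off v)))), (fun _ _ p => p), fun _ _ => rfl, fun _ _ => rfl⟩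
def lf9_84 : Leaf (walkS st) := ⟨[9, 9, 7], [7, 9, 9, 9], 7, 0, (fun off v => (stp7 off (stp9 off (stp9 off v)))), (fun off v => (stp9 off (stp9 off (stp9 off (stp7 off v))))), (fun _ _ p => p), fun _ _ => rfl, fun _ _ => rfl⟩
def lf9_85 : Leaf (walkS st) := ⟨[9, 9, 8, 9], [8, 9], 8, 0, (fun off v => (stp9 off (stp8 off (stp9 off (stp9 off v))))), (fun off v => (stp9 off (stp8 off v))), (fun _ _ p => p), fun _ _ => rfl, fun _ _ => rfl⟩
def lf9_86 : Leaf (walkS st) := ⟨[3, 9], [9, 9, 9, 3], 3, 0, (fun off v => (stp9 off (stp3 off v))), (fun off v => (stp3 off (stp9 off (stp9 off (stp9 off v))))), (fun _ _ p => p), fun _ _ => rfl, fun _ _ => rfl⟩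
def lf9_87 : Leaf (walkS st) := ⟨[8], [9, 9, 9, 8], 8, 0, (fun off v => (stp8 off v)), (fun off v => (stp8 off (stp9 off (stp9 off (stp9 off v))))), (fun _ _ p => p), fun _ _ => rfl, fun _ _ => rfl⟩
def lf9_88 : Leaf (walkS st) := ⟨[9, 9, 8, 9], [8], 8, 0, (fun off v => (stp9 off (stp8 off (stp9 off (stp9 off v))))), (fun off v => (stp8 off v)), (fun _ _ p => p), fun _ _ => rfl, fun _ _ => rfl⟩
def lf9_89 : Leaf (walkS st) := ⟨[0, 9, 9, 9], [9, 9, 0], 0, 0, (fun off v => (stp9 off (stp9 off (stp9 off (stp0 off v))))), (fun off v => (stp0 off (stp9 off (stp9 off v)))), (fun _ _ p => p), fun _ _ => rfl, fun _ _ => rfl⟩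
def lf9_90 : Leaf (walkS st) := ⟨[5, 9, 9, 9], [9, 9, 5, 9], 5, 0, (fun off v => (stp9 off (stp9 off (stp9 off (stp5 off v))))), (fun off v => (stp9 off (stp5 off (stp9 off (stp9 off v))))), (fun _ _ p => p), fun _ _ => rfl, fun _ _ => rfl⟩
def lf9_91 : Leaf (walkS st) := ⟨[6], [9, 9, 6], 6, 0, (fun off v => (stp6 off v)), (fun off v => (stp6 off (stp9 off (stp9 off v)))), (fun _ _ p => p), fun _ _ => rfl, fun _ _ => rfl⟩
def lf9_92 : Leaf (walkS st) := ⟨[9, 9, 7], [7], 7, 0, (fun off v => (stp7 off (stp9 off (stp9 off v)))), (fun off v => (stp7 off v)), (fun _ _ p => p), fun _ _ => rfl, fun _ _ => rfl⟩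
def lf9_93 : Leaf (walkS st) := ⟨[6, 9], [9, 9, 6, 9, 9], 6, 0, (fun off v => (stp9 off (stp6 off v))), (fun off v => (stp9 off (stp9 off (stp6 off (stp9 off (stp9 off v)))))), (fun _ _ p => p), fun _ _ => rfl, fun _ _ => rfl⟩
def lf9_94 : Leaf (walkS st) := ⟨[9, 9, 1, 9], [1, 9, 9, 9], 1, 0, (fun off v => (stp9 off (stp1 off (stp9 off (stp9 off v))))), (fun off v => (stp9 off (stp9 off (stp9 off (stp1 off v))))), (fun _ _ p => p), fun _ _ => rfl, fun _ _ => rfl⟩
def lf9_95 : Leaf (walkS st) := ⟨[2, 9], [9, 9, 2, 9], 2, 0, (fun off v => (stp9 off (stp2 off v))), (fun off v => (stp9 off (stp2 off (stp9 off (stp9 off v))))), (fun _ _ p => p), fun _ _ => rfl, fun _ _ => rfl⟩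
def lf9_96 : Leaf (walkS st) := ⟨[9, 9, 3], [3, 9], 3, 0, (fun off v => (stp3 off (stp9 off (stp9 off v)))), (fun off v => (stp9 off (stp3 off v))), (fun _ _ p => p), fun _ _ => rfl, fun _ _ => rfl⟩
def lf9_97 : Leaf (walkS st) := ⟨[4, 9], [9, 9, 4, 9, 9], 4, 0, (fun off v => (stp9 off (stp4 off v))), (fun off v => (stp9 off (stp9 off (stp4 off (stp9 off (stp9 off v)))))), (fun _ _ p => p), fun _ _ => rfl, fun _ _ => rfl⟩
def lf9_98 : Leaf (walkS st) := ⟨[9, 9, 5], [5, 9, 9], 5, 0, (fun off v => (stp5 off (stp9 off (stp9 off v)))), (fun off v => (stp9 off (stp9 off (stp5 off v)))), (fun _ _ p => p), fun _ _ => rfl, fun _ _ => rfl⟩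
def lf9_99 : Leaf (walkS st) := ⟨[9, 9, 2, 9], [2, 9, 9], 2, 0, (fun off v => (stp9 off (stp2 off (stp9 off (stp9 off v))))), (fun off v => (stp9 off (stp9 off (stp2 off v)))), (fun _ _ p => p), fun _ _ => rfl, fun _ _ => rfl⟩
def lf9_100 : Leaf (walkS st) := ⟨[1], [9, 9, 1, 9, 9, 9], 1, 0, (fun off v => (stp1 off v)), (fun off v => (stp9 off (stp9 off (stp9 off (stp1 off (stp9 off (stp9 off v))))))), (fun _ _ p => p), fun _ _ => rfl, fun _ _ => rfl⟩
def lf9_101 : Leaf (walkS st) := ⟨[0, 9], [9, 9, 9, 0], 0, 0, (fun off v => (stp9 off (stp0 off v))), (fun off v => (stp0 off (stp9 off (stp9 off (stp9 off v))))), (fun _ _ p => p), fun _ _ => rfl, fun _ _ => rfl⟩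
def lf9_102 : Leaf (walkS st) := ⟨[1], [9, 9, 9, 1], 1, 0, (fun off v => (stp1 off v)), (fun off v => (stp1 off (stp9 off (stp9 off (stp9 off v))))), (fun _ _ p => p), fun _ _ => rfl, fun _ _ => rfl⟩
def lf9_103 : Leaf (walkS st) := ⟨[4], [9, 9, 9, 4], 4, 0, (fun off v => (stp4 off v)), (fun off v => (stp4 off (stp9 off (stp9 off (stp9 off v))))), (fun _ _ p => p), fun _ _ => rfl, fun _ _ => rfl⟩
def lf9_104 : Leaf (walkS st) := ⟨[6], [9, 9, 9, 6], 6, 0, (fun off v => (stp6 off v)), (fun off v => (stp6 off (stp9 off (stp9 off (stp9 off v))))), (fun _ _ p => p), fun _ _ => rfl, fun _ _ => rfl⟩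
def lf9_105 : Leaf (walkS st) := ⟨[0], [9, 9, 9, 0], 0, 0, (fun off v => (stp0 off v)), (fun off v => (stp0 off (stp9 off (stp9 off (stp9 off v))))), (fun _ _ p => p), fun _ _ => rfl, fun _ _ => rfl⟩
def lf9_106 : Leaf (walkS st) := ⟨[0], [9, 9, 0], 0, 0, (fun off v => (stp0 off v)), (fun off v => (stp0 off (stp9 off (stp9 off v)))), (fun _ _ p => p), fun _ _ => rfl, fun _ _ => rfl⟩
def lf9_107 : Leaf (walkS st) := ⟨[1], [9, 9, 1, 9], 1, 0, (fun off v => (stp1 off v)), (fun off v => (stp9 off (stp1 off (stp9 off (stp9 off v))))), (fun _ _ p => p), fun _ _ => rfl, fun _ _ => rfl⟩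
def lf9_108 : Leaf (walkS st) := ⟨[6, 9, 9], [9, 9, 6, 9, 9], 6, 0, (fun off v => (stp9 off (stp9 off (stp6 off v)))), (fun off v => (stp9 off (stp9 off (stp6 off (stp9 off (stp9 off v)))))), (fun _ _ p => p), fun _ _ => rfl, fun _ _ => rfl⟩
def lf9_109 : Leaf (walkS st) := ⟨[7, 9], [9, 9, 7, 9, 9], 7, 0, (fun off v => (stp9 off (stp7 off v))), (fun off v => (stp9 off (stp9 off (stp7 off (stp9 off (stp9 off v)))))), (fun _ _ p => p), fun _ _ => rfl, fun _ _ => rfl⟩
def lf9_110 : Leaf (walkS st) := ⟨[2], [9, 2, 9, 9], 2, 0, (fun off v => (stp2 off v)), (fun off v => (stp9 off (stp9 off (stp2 off (stp9 off v))))), (fun _ _ p => p), fun _ _ => rfl, fun _ _ => rfl⟩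
def lf9_111 : Leaf (walkS st) := ⟨[2, 9], [9, 2, 9, 9], 2, 0, (fun off v => (stp9 off (stp2 off v))), (fun off v => (stp9 off (stp9 off (stp2 off (stp9 off v))))), (fun _ _ p => p), fun _ _ => rfl, fun _ _ => rfl⟩
def lf9_112 : Leaf (walkS st) := ⟨[8, 9], [9, 8, 9, 9], 8, 0, (fun off v => (stp9 off (stp8 off v))), (fun off v => (stp9 off (stp9 off (stp8 off (stp9 off v))))), (fun _ _ p => p), fun _ _ => rfl, fun _ _ => rfl⟩
def lf9_113 : Leaf (walkS st) := ⟨[5], [9, 5, 9], 5, 0, (fun off v => (stp5 off v)), (fun off v => (stp9 off (stp5 off (stp9 off v)))), (fun _ _ p => p), fun _ _ => rfl, fun _ _ => rfl⟩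
def lf9_114 : Leaf (walkS st) := ⟨[1, 9], [9, 9, 1, 9], 1, 0, (fun off v => (stp9 off (stp1 off v))), (fun off v => (stp9 off (stp1 off (stp9 off (stp9 off v))))), (fun _ _ p => p), fun _ _ => rfl, fun _ _ => rfl⟩
def lf9_115 : Leaf (walkS st) := ⟨[5, 9], [9, 5, 9], 5, 0, (fun off v => (stp9 off (stp5 off v))), (fun off v => (stp9 off (stp5 off (stp9 off v)))), (fun _ _ p => p), fun _ _ => rfl, fun _ _ => rfl⟩
def lf9_116 : Leaf (walkS st) := ⟨[9, 9, 6, 9], [6, 9, 9], 6, 0, (fun off v => (stp9 off (stp6 off (stp9 off (stp9 off v))))), (fun off v => (stp9 off (stp9 off (stp6 off v)))), (fun _ _ p => p), fun _ _ => rfl, fun _ _ => rfl⟩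
def lf9_117 : Leaf (walkS st) := ⟨[0], [9, 9, 0, 9, 9, 9, 9], 0, 0, (fun off v => (stp0 off v)), (fun off v => (stp9 off (stp9 off (stp9 off (stp9 off (stp0 off (stp9 off (stp9 off v)))))))), (fun _ _ p => p), fun _ _ => rfl, fun _ _ => rfl⟩
def lf9_118 : Leaf (walkS st) := ⟨[], [5, 0, 1, 0, 1, 0, 2, 1, 2, 4, 3, 5, 3, 5, 0, 5, 4, 3, 0, 9], 48, 1, (fun _ v => v), (fun off v => (stp9 off (stp0 off (stp3 off (stp4 off (stp5 off (stp0 off (stp5 off (stp3 off (stp5 off (stp3 off (stp4 off (stp2 off (stp1 off (stp2 off (stp0 off (stp1 off (stp0 off (stp1 off (stp0 off (stp5 off v))))))))))))))))))))), (fun v _ _ => v), fun _ _ => rfl, fun _ _ => rfl⟩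
def tree9 : RTree (walkS st) :=
  (.node 17 (.node 5 (.node 2 (.node 1 (.fork lf9_0) (.fork lf9_1)) (.node 3 (.fork lf9_2) (.node 4 (.fork lf9_3) (.fork lf9_4)))) (.node 9 (.node 7 (.node 6 (.fork lf9_5) (.fork lf9_6)) (.node 8 (.fork lf9_7) (.fork lf9_8))) (.node 12 (.node 10 (.fork lf9_9) (.node 11 (.fork lf9_10) (.fork lf9_11))) (.node 14 (.node 13 (.fork lf9_12) (.fork lf9_13)) (.node 15 (.fork lf9_14) (.node 16 (.fork lf9_15) (.fork lf9_16))))))) (.node 60 (.node 31 (.node 24 (.node 20 (.node 18 (.fork lf9_17) (.node 19 (.fork lf9_18) (.fork lf9_19))) (.node 22 (.node 21 (.fork lf9_20) (.fork lf9_21)) (.node 23 (.fork lf9_22) (.fork lf9_23)))) (.node 27 (.node 25 (.fork lf9_24) (.node 26 (.fork lf9_25) (.fork lf9_26))) (.node 29 (.node 28 (.fork lf9_27) (.fork lf9_28)) (.node 30 (.fork lf9_29) (.fork lf9_30))))) (.node 45 (.node 37 (.node 33 (.node 32 (.fork lf9_31) (.fork lf9_32)) (.node 35 (.node 34 (.fork lf9_33) (.fork lf9_34)) (.node 36 (.fork lf9_35) (.fork lf9_36)))) (.node 41 (.node 39 (.node 38 (.fork lf9_37) (.fork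 lf9_38)) (.node 40 (.fork lf9_39) (.fork lf9_40))) (.node 43 (.node 42 (.fork lf9_41) (.fork lf9_42)) (.node 44 (.fork lf9_43) (.fork lf9_44))))) (.node 52 (.node 48 (.node 46 (.fork lf9_45) (.node 47 (.fork lf9_46) (.fork lf9_47))) (.node 50 (.node 49 (.fork lf9_48) (.fork lf9_49)) (.node 51 (.fork lf9_50) (.fork lf9_51)))) (.node 56 (.node 54 (.node 53 (.fork lf9_52) (.fork lf9_53)) (.node 55 (.fork lf9_54) (.fork lf9_55))) (.node 58 (.node 57 (.fork lf9_56) (.fork lf9_57)) (.node 59 (.fork lf9_58) (.fork lf9_59))))))) (.node 89 (.node 74 (.node 67 (.node 63 (.node 61 (.fork lf9_60) (.node 62 (.fork lf9_61) (.fork lf9_62))) (.node 65 (.node 64 (.fork lf9_63) (.fork lf9_64)) (.node 66 (.fork lf9_65) (.fork lf9_66)))) (.node 70 (.node 68 (.fork lf9_67) (.node 69 (.fork lf9_68) (.fork lf9_69))) (.node 72 (.node 71 (.fork lf9_70) (.fork lf9_71)) (.node 73 (.fork lf9_72) (.fork lf9_73))))) (.node 81 (.node 77 (.node 75 (.fork lf9_74) (.node 76 (.fork lf9_75) (.fork lf9_76))) (.node 79 (.node 78 (.fork lf9_77) (.fork lf9_78)) (.node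 80 (.fork lf9_79) (.fork lf9_80)))) (.node 85 (.node 83 (.node 82 (.fork lf9_81) (.fork lf9_82)) (.node 84 (.fork lf9_83) (.fork lf9_84))) (.node 87 (.node 86 (.fork lf9_85) (.fork lf9_86)) (.node 88 (.fork lf9_87) (.fork lf9_88)))))) (.node 104 (.node 96 (.node 92 (.node 90 (.fork lf9_89) (.node 91 (.fork lf9_90) (.fork lf9_91))) (.node 94 (.node 93 (.fork lf9_92) (.fork lf9_93)) (.node 95 (.fork lf9_94) (.fork lf9_95)))) (.node 100 (.node 98 (.node 97 (.fork lf9_96) (.fork lf9_97)) (.node 99 (.fork lf9_98) (.fork lf9_99))) (.node 102 (.node 101 (.fork lf9_100) (.fork lf9_101)) (.node 103 (.fork lf9_102) (.fork lf9_103))))) (.node 111 (.node 107 (.node 105 (.fork lf9_104) (.node 106 (.fork lf9_105) (.fork lf9_106))) (.node 109 (.node 108 (.fork lf9_107) (.fork lf9_108)) (.node 110 (.fork lf9_109) (.fork lf9_110)))) (.node 115 (.node 113 (.node 112 (.fork lf9_111) (.fork lf9_112)) (.node 114 (.fork lf9_113) (.fork lf9_114))) (.node 117 (.node 116 (.fork lf9_115) (.fork lf9_116)) (.node 118 (.fork lf9_117) (.fork lf9_118)))))))))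
def trees : Nat → RTree (walkS st)
  | 0 => tree0
  | 1 => tree1
  | 2 => tree2
  | 3 => tree3
  | 4 => tree4
  | 5 => tree5
  | 6 => tree6
  | 7 => tree7
  | 8 => tree8
  | 9 => tree9
  | _ => .tleaf
noncomputable def fs0 (v : Nat) : Bool := chkSlot par tA0 je0 pe 7 127 16 (deadF par tA9) (fun _ => 238) tree0 0 v
noncomputable def fs1 (v : Nat) : Bool := chkSlot par tA1 je1 pe 7 127 16 (deadF par tA9) (fun _ => 238) tree1 1 v
noncomputable def fs2 (v : Nat) : Bool := chkSlot par tA2 je2 pe 7 127 16 (deadF par tA9) (fun _ => 238) tree2 2 v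
noncomputable def fs3 (v : Nat) : Bool := chkSlot par tA3 je3 pe 7 127 16 (deadF par tA9) (fun _ => 238) tree3 3 v
noncomputable def fs4 (v : Nat) : Bool := chkSlot par tA4 je4 pe 7 127 16 (deadF par tA9) (fun _ => 238) tree4 4 v
noncomputable def fs5 (v : Nat) : Bool := chkSlot par tA5 je5 pe 7 127 16 (deadF par tA9) (fun _ => 238) tree5 5 v
noncomputable def fs6 (v : Nat) : Bool := chkSlot par tA6 je6 pe 7 127 16 (deadF par tA9) (fun _ => 238) tree6 6 v
noncomputable def fs7 (v : Nat) : Bool := chkSlot par tA7 je7 pe 7 127 16 (deadF par tA9) (fun _ => 238) tree7 7 v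
noncomputable def fs8 (v : Nat) : Bool := chkSlot par tA8 je8 pe 7 127 16 (deadF par tA9) (fun _ => 238) tree8 8 v
noncomputable def fs9 (v : Nat) : Bool := chkSlot par tA9 je9 pe 7 127 16 (fun _ => true) (fun v => Nat.pred v) tree9 9 v
def gl (k : Nat) : Bool := liveF par tA9 (Nat.succ k)

end

end Cfsg.Agent.Lib.Helper35.RuPOrd.Y0
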